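import Cfsg.Agent.L0.BZ.A
import Cfsg.Agent.H2.ReeMult
import Cfsg.Agent.H2.ReeAut
import Cfsg.Agent.H2.SzSub
import Cfsg.Agent.H7.Aut2

/-! Balance for the Suzuki groups and the small Ree groups. -/

set_option autoImplicit false

namespace Cfsg.Agent.L0.BZ

open Cfsg.Agent.H6.BA Cfsg.Agent.H2

variable {p : ℕ} [hp : Fact p.Prime]

section Sz
open Suz

theorem bal_sz {F : Type*} [Field F] {m : ℕ} [SzF F m] (hp2 : p ≠ 2) : Bal p (Sz F m) := by
  have := finite F m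
  have := finite_Sz F m
  have := charP F m
  have := H7.isCyclic_ringAut F 2
  have hc : p.Coprime 2 := (Nat.coprime_primes hp.out Nat.prime_two).2 hp2
  refine bal_cyc hp2 (fieldAut m) ((injective_iff_map_eq_one _).2 fun g hg => eq_one_of_fix_all fun q => by
    rw [← piA_conj, hg, piA_one]) exists_aut_eq (fun _ => fieldAut_mem_Inn) (fun _ => isCyclic_of_isPGroup_odd hp2)
    fun σ x h1 h2 h3 N h4 h5 h6 => ?_
  let H := fixedSubgroup (fieldAut m σ)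
  have hB : ∀ a b k, u m a b * h m k ∈ H → u m a b ∈ H ∧ h m k ∈ H := fun a b k e => by
    have e' : fieldAut m σ _ = _ := e
    rw [map_mul, fieldAut_u, fieldAut_h] at e'
    obtain ⟨e1, e2, e3⟩ := uh_inj e'
    exact ⟨(fieldAut_u σ a b).trans (by rw [e1, e2]), (fieldAut_h σ k).trans (by rw [e3])⟩
  have key := rank_one hc (H := H) (U := Qp (inf F m) ⊓ H) (T := (hHom m).range ⊓ H) (w := w F m) h4 h5 h6
    inf_le_right inf_le_right ⟨4, (hc.symm.pow_left 2 :), fun v hv => hv.1.2⟩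
    (by
      rintro _ ⟨⟨k, rfl⟩, hk⟩ v ⟨hv, hv'⟩
      obtain ⟨a, b, rfl⟩ := mem_Qp_inf.1 hv
      exact ⟨mem_Qp_inf.2 ⟨_, _, h_conj_u k a b⟩, H.mul_mem (H.mul_mem hk hv') (H.inv_mem hk)⟩)
    (by
      rintro _ ⟨⟨k, rfl⟩, -⟩
      change w F m * h m k * _ = (h m k)⁻¹
      rw [w_mul_h, h_inv, mul_inv_cancel_right])
    (fun y hy => by
      rcases bruhat y with ⟨a, b, k, rfl⟩ | ⟨a, b, c, d, k, rfl⟩
      · exact Or.inl ⟨_, ⟨u_mem_Qp a b, (hB _ _ _ hy).1⟩, _, ⟨⟨k, rfl⟩, (hB _ _ _ hy).2⟩, rfl⟩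
      · have e : fieldAut m σ _ = _ := hy
        have e' := congrArg (· • inf F m) e
        simp only [map_mul, fieldAut_u, fieldAut_h, fieldAut_w, mul_smul, h_smul_inf, u_smul_inf, w_smul_inf,
          u_smul_zero] at e'
        have hu : u m a b ∈ H := (fieldAut_u σ a b).trans (by rw [(pt_inj e').1, (pt_inj e').2])
        have h7 := hB c d k (by simpa only [inv_mul_cancel_left] using mul_mem (inv_mem (mul_mem hu (fieldAut_w σ : w F m ∈ H))) hy)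
        exact Or.inr ⟨_, ⟨u_mem_Qp a b, hu⟩, _, ⟨u_mem_Qp c d, h7.1⟩, _, ⟨⟨k, rfl⟩, h7.2⟩, (mul_assoc _ _ _).symm⟩)
    h3 h1 h2
  have fx : ∀ y ∈ H, ∀ c ∈ N, c • y • inf F m = y • inf F m := fun y hy c hc => by
    obtain ⟨v, hv, _, ⟨⟨k, rfl⟩, -⟩, e⟩ := key _ (h5 _ (inv_mem hy) c hc)
    have : (y⁻¹ * c * y⁻¹⁻¹) • inf F m = inf F m := by
      rw [e, mul_smul, show (hHom m k) • inf F m = inf F m from h_smul_inf k, hv.1.1]
    rwa [inv_inv, mul_smul, mul_smul, inv_smul_eq_iff] at this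
  refine eq_bot_iff.2 fun c hc => eq_one_of_fix_three (pt_ne_inf 0 0).symm (pt_ne_inf 1 0).symm
    (fun e => zero_ne_one (pt_inj e).1) (by simpa using fx 1 (one_mem _) c hc)
    (by simpa using fx _ (fieldAut_w σ) c hc) ?_
  have := fx _ (mul_mem (show u m 1 0 ∈ H from (fieldAut_u σ 1 0).trans (by simp)) (fieldAut_w σ)) c hc
  rwa [mul_smul, w_smul_inf, u_smul_zero] at this

theorem bal_isoSz {G : Type*} [Group G] (hp2 : p ≠ 2) (h : Cfsg.Lie.IsoSuzuki G) : Bal p G := by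
  obtain ⟨F, _, _, m, hm, hF, ⟨e⟩⟩ := h
  have := SzF.of_fintype hm hF
  exact (bal_sz hp2).congr (e.trans (equivLie F m).symm)

end Sz

section Ree
open Ree

theorem bal_ree {K : Type*} [Field K] {m : ℕ} [ReeF K m] (hp2 : p ≠ 2) (hp3 : p ≠ 3) : Bal p (ReeG K m) := by
  have := finite K
  have := finite_G K
  have := charP K
  have := Fact.mk Nat.prime_three
  have := H7.isCyclic_ringAut K 3
  have hc : p.Coprime 2 := (Nat.coprime_primes hp.out Nat.prime_two).2 hp2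
  have hc3 : p.Coprime 3 := (Nat.coprime_primes hp.out Nat.prime_three).2 hp3
  refine bal_cyc hp2 fieldAut ((injective_iff_map_eq_one _).2 fun g hg => eq_one_of_fix_all fun q => by
    rw [← piA_conj, hg, piA_one]) exists_aut_eq (fun _ => fieldAut_mem_Inn)
    (fun _ => isCyclic_of_isPGroup hp.out hp2 hp3) fun σ x h1 h2 h3 N h4 h5 h6 => ?_
  let H := fixedSubgroup (fieldAut (m := m) σ)
  have hB : ∀ a b c k, u a b c * h k ∈ H → u a b c ∈ H ∧ h k ∈ H := fun a b c k e => by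
    have e' : fieldAut σ _ = _ := e
    rw [map_mul, fieldAut_u, fieldAut_h] at e'
    obtain ⟨e1, e2, e3, e4⟩ := uh_inj e'
    exact ⟨(fieldAut_u σ a b c).trans (by rw [e1, e2, e3]), (fieldAut_h σ k).trans (by rw [e4])⟩
  have key := rank_one hc (H := H) (U := Qp (inf K) ⊓ H) (T := h.range ⊓ H) (w := w K) h4 h5 h6
    inf_le_right inf_le_right ⟨9, (hc3.symm.pow_left 2 :), fun v hv => by
      obtain ⟨a, b, c, rfl⟩ := mem_Qp_inf.1 hv.1
      exact u_pow_nine a b c⟩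
    (by
      rintro _ ⟨⟨k, rfl⟩, hk⟩ v ⟨hv, hv'⟩
      obtain ⟨a, b, c, rfl⟩ := mem_Qp_inf.1 hv
      exact ⟨mem_Qp_inf.2 ⟨_, _, _, h_conj_u k a b c⟩, H.mul_mem (H.mul_mem hk hv') (H.inv_mem hk)⟩)
    (by
      rintro _ ⟨⟨k, rfl⟩, -⟩
      rw [w_mul_h, map_inv, mul_inv_cancel_right])
    (fun y hy => by
      rcases bruhat y with ⟨a, b, c, k, rfl⟩ | ⟨a, b, c, k, a', b', c', rfl⟩
      · exact Or.inl ⟨_, ⟨mem_Qp_inf.2 ⟨a, b, c, rfl⟩, (hB _ _ _ _ hy).1⟩, _, ⟨⟨k, rfl⟩, (hB _ _ _ _ hy).2⟩, rfl⟩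
      · have e : fieldAut σ _ = _ := hy
        rw [map_mul, map_mul, map_mul, fieldAut_u, fieldAut_u, fieldAut_h, fieldAut_w] at e
        obtain ⟨⟨e1, e2, e3⟩, e4, e5, e6, e7⟩ := big_inj e
        have hk : h k ∈ H := (fieldAut_h σ k).trans (by rw [e4])
        have hu : u a' b' c' ∈ H := (fieldAut_u σ _ _ _).trans (by rw [e5, e6, e7])
        refine Or.inr ⟨_, ⟨mem_Qp_inf.2 ⟨a, b, c, rfl⟩, (fieldAut_u σ a b c).trans (by rw [e1, e2, e3])⟩, _,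
          ⟨mem_Qp_inf.2 ⟨_, _, _, h_conj_u k⁻¹ a' b' c'⟩, ?_⟩, _, ⟨⟨k⁻¹, rfl⟩, ?_⟩, ?_⟩
        · rw [map_inv]; exact H.mul_mem (H.mul_mem (H.inv_mem hk) hu) (H.inv_mem (H.inv_mem hk))
        · rw [map_inv]; exact H.inv_mem hk
        · have := w_mul_h (m := m) k⁻¹
          rw [inv_inv] at this
          rw [mul_assoc _ (h k), ← this]; group)
    h3 h1 h2
  have fx : ∀ y ∈ H, ∀ c ∈ N, c • y • inf K = y • inf K := fun y hy c hc => by
    obtain ⟨v, hv, _, ⟨⟨k, rfl⟩, -⟩, e⟩ := key _ (h5 _ (inv_mem hy) c hc)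
    obtain ⟨a, b, d, rfl⟩ := mem_Qp_inf.1 hv.1
    have : (y⁻¹ * c * y⁻¹⁻¹) • inf K = inf K := by rw [e, mul_smul, h_smul_inf, u_smul_inf]
    rwa [inv_inv, mul_smul, mul_smul, inv_smul_eq_iff] at this
  refine eq_bot_iff.2 fun c hc => ?_
  obtain ⟨k, rfl⟩ := fix_two_iff.1 ⟨by simpa using fx 1 (one_mem _) c hc, w_smul_inf (K := K) ▸ fx _ (fieldAut_w σ) c hc⟩
  have := fx _ (mul_mem (show u 1 0 0 ∈ H from (fieldAut_u σ 1 0 0).trans (by simp)) (fieldAut_w σ)) _ hc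
  rw [mul_smul, w_smul_inf, u_smul_zero, h_fix_pt, mul_one] at this
  exact h_eq_one.2 (Units.ext this.1)

theorem bal_isoRee {G : Type*} [Group G] (hp2 : p ≠ 2) (hp3 : p ≠ 3) (h : Cfsg.Lie.IsoRee G) : Bal p G := by
  obtain ⟨F, _, _, m, hm, hF, ⟨e⟩⟩ := h
  have := ReeF.of_fintype hm hF
  exact (bal_ree hp2 hp3).congr e

end Ree

end Cfsg.Agent.L0.BZ
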